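import Groth.Prelude.Def_CurvBase
import Groth.Agent.ArLefLib.Node
import Groth.Agent.VarGeom.Normal
import Groth.Agent.GrpSchLib.SmoothReduced
import Mathlib.RingTheory.AdicCompletion.Noetherian

/-!
# Schemes with at worst split nodes are reduced
-/

set_option linter.style.haveILetI false
set_option backward.isDefEq.respectTransparency false
set_option backward.isDefEq.respectTransparency.types false

universe u

open CategoryTheory AlgebraicGeometry TopologicalSpace IsLocalRing

namespace Groth.Agent.SemiTriv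

theorem isReduced_node (k : Type u) [Field k] :
    _root_.IsReduced
      (MvPowerSeries (Fin 2) k ⧸ Ideal.span {(MvPowerSeries.X 0 * MvPowerSeries.X 1 : MvPowerSeries (Fin 2) k)}) := by
  refine ⟨fun x hx => ?_⟩
  obtain ⟨f, rfl⟩ := Ideal.Quotient.mk_surjective x
  obtain ⟨n, hn⟩ := hx
  rw [← map_pow, Ideal.Quotient.eq_zero_iff_mem, Ideal.mem_span_singleton'] at hn
  obtain ⟨a, ha⟩ := hn
  have hm : maximalIdeal k = Ideal.span {(0 : k)} := by
    rw [Ideal.span_singleton_eq_bot.2 rfl, IsLocalRing.maximalIdeal_eq_bot]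
  have h0 : ∀ j : Fin 2, ArLefLib.Node.axisHom j f = 0 := fun j => by
    have h1 := congrArg (ArLefLib.Node.axisHom j) ha
    rw [map_mul, map_mul, map_pow] at h1
    have h2 : ArLefLib.Node.axisHom (B := k) j (MvPowerSeries.X 0) * ArLefLib.Node.axisHom j (MvPowerSeries.X 1) = 0 := by
      fin_cases j
      · exact mul_eq_zero_of_right _ (ArLefLib.Node.axisHom_X_other (by decide))
      · exact mul_eq_zero_of_left (ArLefLib.Node.axisHom_X_other (by decide)) _
    rw [h2, mul_zero] at h1
    exact eq_zero_of_pow_eq_zero h1.symm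
  have hspan : ∀ i : Fin 2, Ideal.span ({MvPowerSeries.C 0, MvPowerSeries.X i} : Set (MvPowerSeries (Fin 2) k)) =
      Ideal.span {MvPowerSeries.X i} := fun i => by
    rw [map_zero, Ideal.span_insert, Ideal.span_singleton_eq_bot.2 rfl, bot_sup_eq]
  have h1 := ArLefLib.Node.axis_decomp hm (show (0 : Fin 2) ≠ 1 by decide) f (h0 1)
  rw [hspan, Ideal.mem_span_singleton'] at h1
  obtain ⟨g, rfl⟩ := h1
  have hg : ArLefLib.Node.axisHom 0 g = 0 := by
    have := h0 0
    rw [map_mul, ArLefLib.Node.axisHom_X_self] at this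
    exact (mul_eq_zero.1 this).resolve_right PowerSeries.X_ne_zero
  have h2 := ArLefLib.Node.axis_decomp hm (show (1 : Fin 2) ≠ 0 by decide) g hg
  rw [hspan, Ideal.mem_span_singleton'] at h2
  obtain ⟨b, rfl⟩ := h2
  rw [Ideal.Quotient.eq_zero_iff_mem, Ideal.mem_span_singleton']
  exact ⟨b, by ring⟩

/-- A locally Noetherian quasi-compact scheme over a field whose closed points are smooth or split nodes is reduced. -/
theorem isReduced_of_split {k : Type u} [Field k] {Z : Scheme.{u}} [IsLocallyNoetherian Z] [CompactSpace Z]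
    (q : Z ⟶ Spec (CommRingCat.of k))
    (h : ∀ y : Z, IsClosed ({y} : Set Z) →
      (∃ W : Z.Opens, y ∈ W ∧ Smooth (W.ι ≫ q)) ∨
        @Curv2.IsOrdDoublePt k _ (Z.presheaf.stalk y) _ (@Curv2.stalkAlgebra k _ Z ⟨q⟩ y) _) :
    IsReduced Z := by
  letI : Z.Over (Spec (CommRingCat.of k)) := ⟨q⟩
  have hclosed : ∀ y : Z, IsClosed ({y} : Set Z) → _root_.IsReduced (Z.presheaf.stalk y) := fun y hy => by
    rcases h y hy with ⟨W, hyW, hW⟩ | hn
    · haveI := hW
      haveI := GrpSchLib.isReduced_of_smooth_field (W.ι ≫ q)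
      exact isReduced_of_injective (W.stalkIso ⟨y, hyW⟩).inv.hom
        (ConcreteCategory.bijective_of_isIso (W.stalkIso ⟨y, hyW⟩).inv).1
    · letI := Curv2.stalkAlgebra k Z y
      obtain ⟨e, -⟩ := hn
      haveI := isReduced_node k
      haveI : _root_.IsReduced (AdicCompletion (maximalIdeal (Z.presheaf.stalk y)) (Z.presheaf.stalk y)) :=
        isReduced_of_injective e.toRingHom e.injective
      exact isReduced_of_injective (algebraMap (Z.presheaf.stalk y)
        (AdicCompletion (maximalIdeal (Z.presheaf.stalk y)) (Z.presheaf.stalk y))) (AdicCompletion.of_injective (maximalIdeal (Z.presheaf.stalk y)) (Z.presheaf.stalk y))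
  refine @isReduced_of_isReduced_stalk Z fun x => ?_
  obtain ⟨c, hc, hcl⟩ := IsClosed.exists_closed_singleton (isClosed_closure (s := ({x} : Set Z))) ⟨x, subset_closure rfl⟩
  have hxc : x ⤳ c := specializes_iff_mem_closure.2 hc
  obtain ⟨S, hS⟩ := VarGeom.exists_isLocalization_stalkSpecializes hxc
  letI := (Z.presheaf.stalkSpecializes hxc).hom.toAlgebra
  haveI := hclosed c hcl
  exact isReduced_localizationPreserves S (Z.presheaf.stalk x) inferInstance

end Groth.Agent.SemiTriv
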