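import Groth.Agent.SemiTriv.DegZero
import Groth.Agent.SemiTriv.NodeRed
import Groth.Agent.MdlHoriz.Pre
import Groth.Agent.MdlInter.Torsion

/-!
# Invertible modules trivial on the generic fibre and of degree zero on the fibre components
-/

set_option linter.style.haveILetI false
set_option linter.unusedSectionVars false
set_option backward.isDefEq.respectTransparency false
set_option backward.isDefEq.respectTransparency.types false
set_option maxHeartbeats 1000000

universe u

open CategoryTheory CategoryTheory.Limits AlgebraicGeometry TopologicalSpace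
open Groth.Agent.H23.PicMul
open scoped Groth.Agent.H23.PicMul

noncomputable section

namespace Groth.Agent.SemiTriv

open Groth.Agent Groth.Agent.MdlInter
open Groth.Agent.DepthTwist (stI)

variable {R : Type u} [CommRing R] [IsDomain R] [IsDiscreteValuationRing R]
  {X : Scheme.{u}} (f : X ⟶ Spec (CommRingCat.of R))

/-- A uniformiser generates a radical ideal on affine opens when the closed fibre is reduced. -/
theorem isRadical_span [IsReduced (f.fiber (IsLocalRing.closedPoint R))] {ϖ : R}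
    (hϖ : IsLocalRing.maximalIdeal R = Ideal.span {ϖ}) (U : X.affineOpens) :
    (Ideal.span {AModX.resR (le_top : U.1 ≤ ⊤) (Coh.toGlobal f ϖ)}).IsRadical := by
  haveI := isClosedImmersion_fiberι (p := f)
  have h : (sfI f).ideal U = Ideal.span {AModX.resR (le_top : U.1 ≤ ⊤) (Coh.toGlobal f ϖ)} := by
    rw [sfI, Models.specialFibreIdeal, MeroX.ideal_comap_idealSheaf, hϖ, Ideal.map_span, Set.image_singleton]
    rfl
  rw [← h, ← ker_fiberι (p := f), Scheme.Hom.ker_apply]
  exact (RingHom.ker_isRadical_iff_reduced_of_surjective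
    ((f.fiberι (IsLocalRing.closedPoint R)).app_surjective U.1 U.2)).2 inferInstance

theorem exists_closed_in_fibre [IsProper f] (x : X) :
    ∃ c : X, x ⤳ c ∧ f c = IsLocalRing.closedPoint R := by
  haveI : CompactSpace X := QuasiCompact.compactSpace_of_compactSpace f
  obtain ⟨c, hc, hcl⟩ := IsClosed.exists_closed_singleton (isClosed_closure (s := ({x} : Set X))) ⟨x, subset_closure rfl⟩
  refine ⟨c, specializes_iff_mem_closure.2 hc, ?_⟩
  have h := f.isClosedMap _ hcl
  rw [Set.image_singleton] at h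
  exact ((IsLocalRing.specializes_closedPoint (f c)).mem_closed h (Set.mem_singleton _) : _) |>.symm

theorem eq_top_of_fibre_subset [IsProper f] (V : X.Opens)
    (h : ∀ x : X, f x = IsLocalRing.closedPoint R → x ∈ V) : V = ⊤ := by
  rw [eq_top_iff]
  intro x _
  obtain ⟨c, hxc, hc⟩ := exists_closed_in_fibre f x
  exact hxc.mem_open V.2 (h c hc)

theorem mem_basicOpen_iff {ϖ : R} (hϖ : IsLocalRing.maximalIdeal R = Ideal.span {ϖ}) (x : X) :
    x ∉ X.basicOpen (Coh.toGlobal f ϖ) ↔ f x = IsLocalRing.closedPoint R := by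
  rw [Scheme.mem_basicOpen _ _ _ (Opens.mem_top x)]
  exact isUnit_pi_iff f hϖ x

/-- Division of a section vanishing on the reduced closed fibre by the uniformiser. -/
theorem exists_div [Flat f] [IsReduced (f.fiber (IsLocalRing.closedPoint R))]
    {ϖ : R} (hϖ : IsLocalRing.maximalIdeal R = Ideal.span {ϖ}) (hϖ0 : ϖ ≠ 0)
    {L : X.Modules} (hL : PicF.IsInvertible L) (σ : Γ(L, ⊤))
    (hvan : ∀ x : X, f x = IsLocalRing.closedPoint R → x ∉ CohB1.genLocus L (InvX.ofSect σ)) :
    ∃ σ' : Γ(L, ⊤), σ = (show Γ(X, ⊤) from Coh.toGlobal f ϖ) • σ' := by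
  let π : Γ(X, ⊤) := Coh.toGlobal f ϖ
  have hreg : ∀ (U : X.Opens) (r : Γ(X, U)), AModX.resR (le_top : U ≤ ⊤) π * r = 0 → r = 0 := by
    intro U r hr
    refine AModX.eq_of_locally (M := Coh.structureModule X) r 0 fun y hy => ?_
    obtain ⟨_, ⟨W, hW, rfl⟩, hyW, hle⟩ := X.isBasis_affineOpens.exists_subset_of_mem_open
      (show y ∈ (U : Set X) from hy) U.2
    refine ⟨W, hle, hyW, ?_⟩
    have hflat : ((f.appLE ⊤ W le_top).hom.comp (Scheme.ΓSpecIso (CommRingCat.of R)).inv.hom).Flat :=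
      RingHom.Flat.comp (RingHom.Flat.of_bijective
        (ConcreteCategory.bijective_of_isIso (Scheme.ΓSpecIso (CommRingCat.of R)).inv))
        (Flat.flat_appLE f (isAffineOpen_top _) hW le_top)
    letI := ((f.appLE ⊤ W le_top).hom.comp (Scheme.ΓSpecIso (CommRingCat.of R)).inv.hom).toAlgebra
    haveI : Module.Flat R Γ(X, W) := hflat
    show AModX.resR hle r = AModX.resR hle (0 : Γ(X, U))
    rw [map_zero]
    have h1 := Module.IsTorsionFree.isSMulRegular (R := R) (M := Γ(X, W)) (IsRegular.of_ne_zero hϖ0)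
    refine h1 (show ϖ • AModX.resR hle r = ϖ • 0 from ?_)
    have hz : algebraMap R Γ(X, W) ϖ = AModX.resR hle (AModX.resR (le_top : U ≤ ⊤) π) := by
      rw [AModX.resR_resR]
      rfl
    rw [smul_zero, Algebra.smul_def, hz, ← map_mul, hr, map_zero]
  have hloc : ∀ x : X, ∃ (U : X.affineOpens) (_ : x ∈ U.1) (t : Γ(L, U.1)),
      AModX.res L (le_top : U.1 ≤ ⊤) σ = AModX.resR (le_top : U.1 ≤ ⊤) π • t := by
    intro x
    obtain ⟨U₀, h₀, e₀, he₀⟩ := InvX.exists_frame hL x
    obtain ⟨U, hU, hxU, hle⟩ := exists_isAffineOpen_mem_and_subset h₀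
    obtain ⟨c, hc⟩ := (he₀.res hle).exists_coord le_rfl (AModX.res L (le_top : U ≤ ⊤) σ)
    rw [AModX.res_self] at hc
    have hcmem : c ∈ Ideal.span {AModX.resR (le_top : U ≤ ⊤) π} := by
      rw [← (isRadical_span f hϖ ⟨U, hU⟩).radical, Ideal.radical_eq_sInf, Ideal.mem_sInf]
      rintro P ⟨hP, hPp⟩
      let P' : PrimeSpectrum Γ(X, U) := ⟨P, hPp⟩
      let y : X := hU.fromSpec P'
      have hyU : y ∈ U := hU.range_fromSpec.le ⟨P', rfl⟩
      have hyF : f y = IsLocalRing.closedPoint R := by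
        rw [← mem_basicOpen_iff f hϖ]
        intro hy
        have h2 : P' ∈ hU.fromSpec ⁻¹ᵁ X.basicOpen (AModX.resR (le_top : U ≤ ⊤) π) := by
          show y ∈ X.basicOpen (X.presheaf.map (homOfLE (le_top : U ≤ ⊤)).op π)
          rw [Scheme.basicOpen_res]
          exact ⟨hyU, hy⟩
        rw [hU.fromSpec_preimage_basicOpen] at h2
        exact h2 (hP (Ideal.mem_span_singleton_self _))
      by_contra hcP
      refine hvan y hyF ?_
      have hg := InvX.genLocus_inf (InvX.ofSect σ) (he₀.res hle)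
        ((congrArg (AModX.res L (le_top : U ≤ ⊤)) (InvX.one_ofSect σ)).trans hc)
      have h2 : P' ∈ hU.fromSpec ⁻¹ᵁ X.basicOpen c := by
        rw [hU.fromSpec_preimage_basicOpen]
        exact hcP
      have h3 : y ∈ CohB1.genLocus L (InvX.ofSect σ) ⊓ U := hg ▸ h2
      exact h3.1
    obtain ⟨r, hr⟩ := Ideal.mem_span_singleton'.1 hcmem
    refine ⟨⟨U, hU⟩, hxU, r • AModX.res L hle e₀, ?_⟩
    rw [hc, ← hr, mul_comm, mul_smul]
  choose U hxU t ht using hloc
  obtain ⟨σ', hσ', -⟩ := TopCat.Sheaf.existsUnique_gluing' (⟨L.presheaf, L.isSheaf⟩ : TopCat.Sheaf Ab X)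
    (fun x => (U x).1) ⊤ (fun x => homOfLE le_top) (fun x _ => Opens.mem_iSup.2 ⟨x, hxU x⟩) t (fun a b => by
      show AModX.res L (inf_le_left : (U a).1 ⊓ (U b).1 ≤ _) (t a) = AModX.res L (inf_le_right : (U a).1 ⊓ (U b).1 ≤ _) (t b)
      have h1 := congrArg (AModX.res L (inf_le_left : (U a).1 ⊓ (U b).1 ≤ _)) (ht a)
      have h2 := congrArg (AModX.res L (inf_le_right : (U a).1 ⊓ (U b).1 ≤ _)) (ht b)
      rw [AModX.res_res, AModX.res_smul, AModX.resR_resR] at h1 h2
      refine sub_eq_zero.1 (eq_zero_of_smul_eq_zero hL (AModX.resR (le_top : (U a).1 ⊓ (U b).1 ≤ ⊤) π) ?_ _ ?_)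
      · intro V hV r hr
        rw [AModX.resR_resR] at hr
        exact hreg V r hr
      · rw [smul_sub, ← h1, ← h2, sub_self])
  refine ⟨σ', ?_⟩
  refine TopCat.Sheaf.eq_of_locally_eq' (⟨L.presheaf, L.isSheaf⟩ : TopCat.Sheaf Ab X) (fun x => (U x).1) ⊤
    (fun x => homOfLE le_top) (fun x _ => Opens.mem_iSup.2 ⟨x, hxU x⟩) _ _ fun x => ?_
  show AModX.res L (le_top : (U x).1 ≤ ⊤) σ = AModX.res L (le_top : (U x).1 ≤ ⊤) (π • σ')
  rw [ht x, AModX.res_smul]
  exact congrArg _ (hσ' x).symm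
where
  eq_zero_of_smul_eq_zero {L : X.Modules} (hL : PicF.IsInvertible L) {W : X.Opens} (a : Γ(X, W))
      (ha : ∀ (V : X.Opens) (hV : V ≤ W) (r : Γ(X, V)), AModX.resR hV a * r = 0 → r = 0) (z : Γ(L, W))
      (hz : a • z = 0) : z = 0 := by
    refine AModX.eq_of_locally z 0 fun y hy => ?_
    obtain ⟨U₀, h₀, e₀, he₀⟩ := InvX.exists_frame hL y
    refine ⟨W ⊓ U₀, inf_le_left, ⟨hy, h₀⟩, ?_⟩
    obtain ⟨r, hr⟩ := (he₀.res (inf_le_right : W ⊓ U₀ ≤ U₀)).exists_coord le_rfl (AModX.res L (inf_le_left : W ⊓ U₀ ≤ W) z)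
    rw [AModX.res_self] at hr
    have h := congrArg (AModX.res L (inf_le_left : W ⊓ U₀ ≤ W)) hz
    rw [AModX.res_smul, hr, ← mul_smul, map_zero] at h
    have h0 : AModX.resR (inf_le_left : W ⊓ U₀ ≤ W) a * r = 0 :=
      (he₀.res (inf_le_right : W ⊓ U₀ ≤ U₀)).coord_unique le_rfl (by rw [AModX.res_self, h, zero_smul])
    rw [hr, ha _ _ r h0, zero_smul, map_zero]

variable [IsProper f] [Flat f]

/-- A section that generates somewhere on the closed fibre and everywhere on the generic fibre. -/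
theorem exists_section [IsReduced (f.fiber (IsLocalRing.closedPoint R))]
    [Nonempty ↥(pullback f (Neron.genPt R))]
    {L : X.Modules} (hL : PicF.IsInvertible L)
    (hgen : Nonempty ((Scheme.Modules.pullback (pullback.fst f (Neron.genPt R))).obj L ≅
      Coh.structureModule (pullback f (Neron.genPt R)))) :
    ∃ σ : Γ(L, ⊤), (∀ x : X, f x ≠ IsLocalRing.closedPoint R → x ∈ CohB1.genLocus L (InvX.ofSect σ)) ∧
      ∃ x : X, f x = IsLocalRing.closedPoint R ∧ x ∈ CohB1.genLocus L (InvX.ofSect σ) := by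
  obtain ⟨ϖ, hϖ⟩ := IsDiscreteValuationRing.exists_irreducible R
  have hm := hϖ.maximalIdeal_eq
  haveI hloc : IsLocalization.Away ϖ (FractionRing R) := by
    refine ⟨?_, fun z => ?_, fun {a b} h => ⟨1, by rw [IsFractionRing.injective R (FractionRing R) h]⟩⟩
    · rintro ⟨_, k, rfl⟩
      exact IsUnit.mk0 _ ((map_ne_zero_iff _ (IsFractionRing.injective R (FractionRing R))).2 (pow_ne_zero k hϖ.ne_zero))
    · obtain ⟨⟨a, s, hs⟩, hz⟩ := IsLocalization.surj (nonZeroDivisors R) z
      obtain ⟨k, u, rfl⟩ := IsDiscreteValuationRing.eq_unit_mul_pow_irreducible (nonZeroDivisors.ne_zero hs) hϖ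
      refine ⟨⟨↑u⁻¹ * a, ϖ ^ k, k, rfl⟩, ?_⟩
      show z * algebraMap R _ (ϖ ^ k) = algebraMap R _ (↑u⁻¹ * a)
      rw [map_mul, ← hz, mul_left_comm, ← map_mul, Units.inv_mul_cancel_left]
  haveI : IsOpenImmersion (Neron.genPt R) := IsOpenImmersion.of_isLocalization ϖ
  let g := pullback.fst f (Neron.genPt R)
  haveI : IsOpenImmersion g := inferInstance
  let π : Γ(X, ⊤) := Coh.toGlobal f ϖ
  have hD : X.basicOpen π = g.opensRange := by
    refine Opens.ext ?_
    have h1 : X.basicOpen π = f ⁻¹ᵁ (PrimeSpectrum.basicOpen ϖ) :=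
      ((congrArg (fun O => f ⁻¹ᵁ O) (basicOpen_eq_of_affine ϖ)).symm.trans (Scheme.preimage_basicOpen f _)).symm
    show (X.basicOpen π : Set X) = Set.range g
    rw [h1, Scheme.Pullback.range_fst,
      show Set.range (Neron.genPt R) = (PrimeSpectrum.basicOpen ϖ : Set (PrimeSpectrum R)) from
        PrimeSpectrum.localization_away_comap_range (FractionRing R) ϖ]
    rfl
  obtain ⟨τ', hτ'⟩ := H23.SeesawGlobal.exists_frame_of_triv g hgen
  let τ : Γ(L, X.basicOpen π) := AModX.res L hD.le τ'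
  have hτ : InvX.IsFrame τ := hτ'.res _
  haveI : CompactSpace X := QuasiCompact.compactSpace_of_compactSpace f
  haveI : QuasiSeparatedSpace X := quasiSeparatedSpace_of_quasiSeparated f
  haveI : IsLocallyNoetherian X := LocallyOfFiniteType.isLocallyNoetherian f
  haveI := (AmpleVan.isCoh_invertible hL).1
  obtain ⟨m, -, σ₀, hσ₀⟩ := S4341.result X π L τ
  -- sections generating on the generic fibre
  let Good : Γ(L, ⊤) → Prop := fun σ => InvX.IsFrame (AModX.res L (le_top : X.basicOpen π ≤ ⊤) σ)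
  have hgood0 : Good σ₀ := by
    show InvX.IsFrame _
    rw [show AModX.res L (le_top : X.basicOpen π ≤ ⊤) σ₀ =
      (AModX.resR (le_top : X.basicOpen π ≤ ⊤) π) ^ m • τ from hσ₀]
    exact hτ.isUnit_smul ((AModX.isUnit_resR _ _ le_rfl).pow m)
  have hoff : ∀ σ, Good σ → ∀ x : X, f x ≠ IsLocalRing.closedPoint R → x ∈ CohB1.genLocus L (InvX.ofSect σ) :=
    fun σ hσ x hx => InvX.le_genLocus (InvX.ofSect σ)
      (by rw [InvX.one_ofSect]; exact hσ) (not_not.1 fun h => hx ((mem_basicOpen_iff f hm x).1 h))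
  by_contra hcon
  push Not at hcon
  have hdiv : ∀ n : ℕ, ∃ σ', Good σ' ∧ σ₀ = π ^ n • σ' := by
    intro n
    induction n with
    | zero => exact ⟨σ₀, hgood0, by rw [pow_zero, one_smul]⟩
    | succ n ih =>
      obtain ⟨σ', hσ', he⟩ := ih
      obtain ⟨σ'', h⟩ := exists_div f hm hϖ.ne_zero hL σ' fun x hx => hcon σ' (hoff σ' hσ') x hx
      refine ⟨σ'', ?_, by rw [he, h, ← mul_smul, ← pow_succ]⟩
      obtain ⟨u, hu⟩ := AModX.isUnit_resR (le_top : X.basicOpen π ≤ ⊤) π le_rfl
      have h2 : AModX.res L (le_top : X.basicOpen π ≤ ⊤) σ'' =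
          (↑u⁻¹ : Γ(X, X.basicOpen π)) • AModX.res L (le_top : X.basicOpen π ≤ ⊤) σ' := by
        rw [h, AModX.res_smul, ← hu, ← mul_smul, Units.inv_mul, one_smul]
      show InvX.IsFrame _
      rw [h2]
      exact hσ'.isUnit_smul (Units.isUnit _)
  haveI : IsLocallyNoetherian X := LocallyOfFiniteType.isLocallyNoetherian f
  obtain ⟨z⟩ := ‹Nonempty ↥(pullback f (Neron.genPt R))›
  have hzD : g z ∈ X.basicOpen π := by rw [hD]; exact ⟨z, rfl⟩
  obtain ⟨c, hzc, hc⟩ := exists_closed_in_fibre f (g z)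
  obtain ⟨U₀, h₀, e₀, he₀⟩ := InvX.exists_frame hL c
  obtain ⟨a, ha⟩ := he₀.exists_coord le_rfl (AModX.res L (le_top : U₀ ≤ ⊤) σ₀)
  rw [AModX.res_self] at ha
  have hmem : X.presheaf.germ U₀ c h₀ a ∈ ⨅ n : ℕ, Ideal.span {pi f ϖ c} ^ n := by
    rw [Submodule.mem_iInf]
    intro n
    obtain ⟨σ', -, he⟩ := hdiv n
    obtain ⟨b, hb⟩ := he₀.exists_coord le_rfl (AModX.res L (le_top : U₀ ≤ ⊤) σ')
    rw [AModX.res_self] at hb
    have h : a = AModX.resR (le_top : U₀ ≤ ⊤) π ^ n * b := he₀.coord_unique le_rfl (by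
      rw [AModX.res_self, mul_smul, ← hb, ← ha, he, AModX.res_smul, map_pow])
    rw [Ideal.span_singleton_pow, Ideal.mem_span_singleton, h, map_mul, map_pow,
      show X.presheaf.germ U₀ c h₀ (AModX.resR (le_top : U₀ ≤ ⊤) π) = pi f ϖ c from pi_germ f ϖ U₀ h₀]
    exact dvd_mul_right _ _
  have hne : Ideal.span {pi f ϖ c} ≠ ⊤ := fun h => (isUnit_pi_iff f hm c).2 hc (Ideal.span_singleton_eq_top.1 h)
  rw [Ideal.iInf_pow_eq_bot_of_isLocalRing _ hne, Submodule.mem_bot, ← map_zero (X.presheaf.germ U₀ c h₀).hom] at hmem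
  obtain ⟨V, hcV, i, j, hV⟩ := TopCat.Presheaf.germ_eq X.presheaf c h₀ h₀ a 0 hmem
  have hVz : g z ∈ V := hzc.mem_open V.2 hcV
  let W := V ⊓ X.basicOpen π
  have hW0 : AModX.res L (le_top : W ≤ ⊤) σ₀ = 0 := by
    have h := congrArg (AModX.res L ((inf_le_left : W ≤ V).trans i.le)) ha
    rw [AModX.res_res, AModX.res_smul] at h
    have hz0 : AModX.resR ((inf_le_left : W ≤ V).trans i.le) a = 0 := by
      rw [← AModX.resR_resR i.le (inf_le_left : W ≤ V),
        show AModX.resR i.le a = AModX.resR j.le (0 : Γ(X, U₀)) from hV, map_zero, map_zero]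
    rw [h, hz0, zero_smul]
  have hfr : InvX.IsFrame (AModX.res L (le_top : W ≤ ⊤) σ₀) := by
    have h := hgood0.res (inf_le_right : W ≤ X.basicOpen π)
    rwa [AModX.res_res] at h
  rw [hW0] at hfr
  haveI : Nonempty W := ⟨⟨g z, hVz, hzD⟩⟩
  exact one_ne_zero (hfr.coord_unique (le_refl W)
    (show (1 : Γ(X, W)) • _ = (0 : Γ(X, W)) • _ by rw [map_zero, smul_zero, smul_zero]))

/-- The integral curve of an irreducible component of the closed fibre. -/
theorem exists_vertComp (hdim : ∀ Z ∈ irreducibleComponents (f.fiber (IsLocalRing.closedPoint R) : Type u),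
      topologicalKrullDim Z = 1) {x : X} (hx : f x = IsLocalRing.closedPoint R) :
    ∃ G : ArSurf.VertComp R (Over.mk f), x ∈ Set.range (G.ι.base : G.curve.left → X) ∧
      Set.range (G.ι.base : G.curve.left → X) ∈
        (Set.image (f.fiberι (IsLocalRing.closedPoint R)).base '' irreducibleComponents (f.fiber (IsLocalRing.closedPoint R) : Type u)) := by
  haveI := isClosedImmersion_fiberι (p := f)
  let i := f.fiberι (IsLocalRing.closedPoint R)
  obtain ⟨y, rfl⟩ : x ∈ Set.range i := by rw [Scheme.Hom.range_fiberι]; exact hx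
  obtain ⟨η, hη⟩ := QuasiSober.sober (S := irreducibleComponent y) isIrreducible_irreducibleComponent
    isClosed_irreducibleComponent
  obtain ⟨Z, ι, _, _, hgen⟩ := MdlHoriz.exists_integral_closed (i η)
  have hr : Set.range ι = i '' irreducibleComponent y := by
    rw [range_eq_closure_gen ι, hgen, ← hη.def, ← i.isClosedEmbedding.closure_image_eq, Set.image_singleton]
  let s := Spec.map (CommRingCat.ofHom (IsLocalRing.residue R))
  haveI : IsClosedImmersion s := IsClosedImmersion.spec_of_surjective _ IsLocalRing.residue_surjective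
  haveI : IsClosedImmersion (pullback.fst f s) := MorphismProperty.pullback_fst _ _ inferInstance
  obtain ⟨z, hz⟩ := H23.RedSub.exists_lift ι (pullback.fst f s) (by
    rw [hr, Scheme.Pullback.range_fst, range_specResidue]
    rintro _ ⟨w, -, rfl⟩
    exact (Scheme.Hom.range_fiberι f _).le ⟨w, rfl⟩)
  have hdimZ : topologicalKrullDim Z = 1 := by
    let e1 := ι.isClosedEmbedding.isEmbedding.toHomeomorph
    let e2 := i.isClosedEmbedding.isEmbedding.homeomorphImage (irreducibleComponent y)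
    rw [IsHomeomorph.topologicalKrullDim_eq e1 e1.isHomeomorph, hr,
      ← IsHomeomorph.topologicalKrullDim_eq e2 e2.isHomeomorph]
    exact hdim _ (irreducibleComponent_mem_irreducibleComponents y)
  let G : ArSurf.VertComp R (Over.mk f) :=
    { curve := Over.mk (z ≫ pullback.snd f s)
      ι := ι
      isClosedImmersion := inferInstance
      isIntegral := ‹IsIntegral Z›
      dim_eq := hdimZ
      w := by
        show ι ≫ f = (z ≫ pullback.snd f s) ≫ s
        rw [← hz, Category.assoc, pullback.condition, Category.assoc] }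
  exact ⟨G, hr.ge ⟨y, mem_irreducibleComponent, rfl⟩, _, irreducibleComponent_mem_irreducibleComponents y, hr.symm⟩

/-- Invertible modules trivial on the generic fibre, of degree zero on the fibre components, are trivial. -/
theorem isTrivial_of_deg_zero [IsReduced (f.fiber (IsLocalRing.closedPoint R))]
    [Nonempty ↥(pullback f (Neron.genPt R))] [ConnectedSpace ↥(f.fiber (IsLocalRing.closedPoint R))]
    (hdim : ∀ Z ∈ irreducibleComponents (f.fiber (IsLocalRing.closedPoint R) : Type u), topologicalKrullDim Z = 1)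
    {L : X.Modules} (hL : PicF.IsInvertible L)
    (hgen : Nonempty ((Scheme.Modules.pullback (pullback.fst f (Neron.genPt R))).obj L ≅
      Coh.structureModule (pullback f (Neron.genPt R))))
    (hdeg : ∀ Γ : ArSurf.VertComp R (Over.mk f), ArSurf.inter R (Over.mk f) L Γ = 0) :
    Nonempty (L ≅ Coh.structureModule X) := by
  obtain ⟨σ, hoff, x₀, hx₀, hx₀V⟩ := exists_section f hL hgen
  let s := InvX.ofSect σ
  let V := CohB1.genLocus L s
  -- a component meeting the generating locus is contained in it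
  have hcomp : ∀ G : ArSurf.VertComp R (Over.mk f), (∃ w : G.curve.left, (G.ι : G.curve.left ⟶ X) w ∈ V) →
      ∀ w : G.curve.left, (G.ι : G.curve.left ⟶ X) w ∈ V := by
    rintro G ⟨w₀, hw₀⟩ w
    let u : G.curve.left ⟶ X := G.ι
    haveI : IsProper (G.curve.left ↘ Spec (CommRingCat.of (IsLocalRing.ResidueField R))) := isProper_curve G
    obtain ⟨e⟩ := PicClLib.nonempty_pullback_structureModule u
    have hg := InvX.genLocus_pullback u hL s e.symm
    have htop := genLocus_eq_top_of_curveDeg_zero (k := IsLocalRing.ResidueField R) G.dim_eq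
      (PicClLib.isInvertible_pullback u hL) (hdeg G) (e.symm.hom ≫ (Scheme.Modules.pullback u).map s)
      ⟨w₀, by rw [hg]; exact hw₀⟩
    rw [hg] at htop
    exact (htop.ge (Set.mem_univ w) : _)
  let i := f.fiberι (IsLocalRing.closedPoint R)
  haveI := isClosedImmersion_fiberι (p := f)
  haveI : IsLocallyNoetherian X := LocallyOfFiniteType.isLocallyNoetherian f
  haveI : IsLocallyNoetherian (f.fiber (IsLocalRing.closedPoint R)) := LocallyOfFiniteType.isLocallyNoetherian i
  haveI : CompactSpace X := QuasiCompact.compactSpace_of_compactSpace f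
  haveI : CompactSpace (f.fiber (IsLocalRing.closedPoint R)) := i.isClosedEmbedding.compactSpace
  haveI : IsNoetherian (f.fiber (IsLocalRing.closedPoint R)) := { }
  let A : Set (f.fiber (IsLocalRing.closedPoint R)) := i ⁻¹' V
  have hAo : IsOpen A := V.2.preimage i.continuous
  have hmeet : ∀ T ∈ irreducibleComponents (f.fiber (IsLocalRing.closedPoint R) : Type u),
      (T ∩ A).Nonempty → T ⊆ A := by
    intro T hT ⟨t, htT, htA⟩ w hw
    obtain ⟨η, hη⟩ := QuasiSober.sober (S := T) hT.1 (isClosed_of_mem_irreducibleComponents T hT)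
    obtain ⟨G, hG, T', hT', hGT⟩ := exists_vertComp f hdim (x := i η)
      (show i η ∈ f ⁻¹' {IsLocalRing.closedPoint R} from (Scheme.Hom.range_fiberι f _).le ⟨η, rfl⟩)
    have hTT' : T ⊆ T' := by
      obtain ⟨η', hη', he⟩ := hGT.symm.le hG
      rw [i.isClosedEmbedding.injective he] at hη'
      intro q hq
      exact (hη.specializes hq).mem_closed (isClosed_of_mem_irreducibleComponents T' hT') hη'
    obtain ⟨wt, hwt⟩ := hGT.le ⟨t, hTT' htT, rfl⟩
    obtain ⟨ww, hww⟩ := hGT.le ⟨w, hTT' hw, rfl⟩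
    have := hcomp G ⟨wt, by rw [show (G.ι : G.curve.left ⟶ X) wt = i t from hwt]; exact htA⟩ ww
    rwa [show (G.ι : G.curve.left ⟶ X) ww = i w from hww] at this
  have hAc : IsClosed A := by
    let 𝒯 : Set (Set ↥(f.fiber (IsLocalRing.closedPoint R))) :=
      {T | T ∈ irreducibleComponents ↥(f.fiber (IsLocalRing.closedPoint R)) ∧ (T ∩ A).Nonempty}
    have he : A = ⋃ T ∈ 𝒯, T := by
      refine subset_antisymm (fun w hw => ?_) (Set.iUnion₂_subset fun T hT => hmeet T hT.1 hT.2)
      have hT : irreducibleComponent w ∈ 𝒯 :=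
        ⟨irreducibleComponent_mem_irreducibleComponents w, w, mem_irreducibleComponent, hw⟩
      exact Set.mem_biUnion hT (mem_irreducibleComponent : w ∈ irreducibleComponent w)
    rw [he]
    exact (TopologicalSpace.NoetherianSpace.finite_irreducibleComponents.subset fun T hT => hT.1).isClosed_biUnion
      fun T hT => isClosed_of_mem_irreducibleComponents T hT.1
  obtain ⟨y₀, hy₀⟩ : x₀ ∈ Set.range i := by rw [Scheme.Hom.range_fiberι]; exact hx₀
  have hA : A = Set.univ := (show IsClopen A from ⟨hAc, hAo⟩).eq_univ ⟨y₀, by show i y₀ ∈ V; rw [hy₀]; exact hx₀V⟩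
  have hV : V = ⊤ := eq_top_iff.2 fun x _ => by
    by_cases hx : f x = IsLocalRing.closedPoint R
    · obtain ⟨y, rfl⟩ : x ∈ Set.range i := by rw [Scheme.Hom.range_fiberι]; exact hx
      exact (hA.ge (Set.mem_univ y) : y ∈ A)
    · exact hoff x hx
  have hs : IsIso s := DivX.isIso_of_frames s fun x => by
    obtain ⟨U, hxU, hU⟩ := InvX.mem_genLocus (hV.ge (Set.mem_univ x) : x ∈ CohB1.genLocus L s)
    refine ⟨U, hxU, _, InvX.isFrame_one U, ?_⟩
    rw [InvX.app_eq_smul, one_smul]
    exact hU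
  exact ⟨(asIso s).symm⟩

end Groth.Agent.SemiTriv
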