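import Groth.Agent.MdlInter.Trivial
import Groth.Agent.DepthTwist.Connected
import Groth.Agent.InvX.GenLocusPull
import Groth.Agent.MdlInter.Inter

/-!
# Sections of invertible modules of degree zero
-/

set_option linter.style.haveILetI false
set_option linter.unusedSectionVars false
set_option backward.isDefEq.respectTransparency false
set_option backward.isDefEq.respectTransparency.types false
set_option maxHeartbeats 1000000

universe u

open CategoryTheory CategoryTheory.Limits AlgebraicGeometry TopologicalSpace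
open Groth.Agent.H23.PicMul
open scoped Groth.Agent.H23.PicMul

noncomputable section

namespace Groth.Agent.SemiTriv

open Groth.Agent Groth.Agent.MdlInter

/-- On an integral curve a section of a module of degree zero that generates somewhere generates everywhere. -/
theorem genLocus_eq_top_of_curveDeg_zero {k : Type u} [Field k] {Y : Scheme.{u}}
    [Y.Over (Spec (CommRingCat.of k))] [IsProper (Y ↘ Spec (CommRingCat.of k))] [IsIntegral Y]
    (hdim : topologicalKrullDim Y = 1) {L : Y.Modules} (hL : PicF.IsInvertible L)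
    (hdeg : ArSurf.curveDeg k Y L = 0) (s : Coh.structureModule Y ⟶ L) (hne : (CohB1.genLocus L s : Set Y).Nonempty) :
    CohB1.genLocus L s = ⊤ := by
  haveI := CurveCohLib.isNoetherian_of_proper (k := k) (X := Y)
  let J := PicF2.zeroScheme L s
  have hη : genericPoint Y ∈ CohB1.genLocus L s :=
    ((genericPoint_spec Y).mem_open_set_iff (CohB1.genLocus L s).2).2 (by rwa [Set.univ_inter])
  have hframe : ∀ y : Y, ∃ (U : Y.affineOpens) (_ : y ∈ U.1) (e : Γ(L, U.1)) (c : Γ(Y, U.1)),
      InvX.IsFrame e ∧ AModX.res L (le_top : U.1 ≤ ⊤) (InvX.one s) = c • e ∧ J.ideal U = Ideal.span {c} ∧ c ≠ 0 := by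
    intro y
    obtain ⟨U₀, h₀, e₀, he₀⟩ := InvX.exists_frame hL y
    obtain ⟨U, hU, hyU, hle⟩ := exists_isAffineOpen_mem_and_subset h₀
    obtain ⟨c, hc⟩ := (he₀.res hle).exists_coord le_rfl (AModX.res L (le_top : U ≤ ⊤) (InvX.one s))
    rw [AModX.res_self] at hc
    refine ⟨⟨U, hU⟩, hyU, _, c, he₀.res hle, hc,
      (ZeroSchX.ideal_zeroScheme hL s ⟨U, hU⟩).trans
        (ZeroSchX.zeroIdealOn_eq_span s (he₀.res hle)
          ((ZeroSchX.res_sv s (le_top : U ≤ ⊤)).symm.trans hc)), fun h0 => ?_⟩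
    have h := InvX.genLocus_inf s (he₀.res hle) hc
    rw [h0, Scheme.basicOpen_zero] at h
    have hmem : genericPoint Y ∈ CohB1.genLocus L s ⊓ U :=
      ⟨hη, ((genericPoint_spec Y).mem_open_set_iff U.2).2 (by rw [Set.univ_inter]; exact ⟨y, hyU⟩)⟩
    rw [h] at hmem
    exact hmem
  have hJ : BlowUp.IsEffCartierIdeal J := fun y => by
    obtain ⟨U, hyU, e, c, -, -, hJU, hc0⟩ := hframe y
    haveI : Nonempty U.1 := ⟨⟨y, hyU⟩⟩
    exact ⟨U, hyU, c, mem_nonZeroDivisors_of_ne_zero hc0, hJU⟩
  have hJi : PicF.IsInvertible (ClSub.idealMod J) := (S8914.result _).2 hJ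
  obtain ⟨iso⟩ := MdlInter.nonempty_tensor_idealMod J hJi (InvX.one s) fun y => by
    obtain ⟨U, hyU, e, c, he, hc, hJU, hc0⟩ := hframe y
    refine ⟨U, hyU, e, c, he, hc, hJU, fun W hW r hr => ?_⟩
    rcases Set.eq_empty_or_nonempty (W : Set Y) with h | ⟨w, hw⟩
    · have : W = ⊥ := Opens.ext h
      subst this
      exact Subsingleton.elim _ _
    · haveI : Nonempty W := ⟨⟨w, hw⟩⟩
      haveI : Nonempty U.1 := ⟨⟨w, hW hw⟩⟩
      refine (mul_eq_zero.1 hr).resolve_right fun h => hc0 (map_injective_of_isIntegral Y (homOfLE hW) ?_)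
      rw [map_zero]
      exact h
  obtain ⟨hfin, hd⟩ := curveDeg_divisor k hdim hJ hL ⟨iso⟩
  rw [hdeg, finrank_quotMod'] at hd
  let Z := J.subscheme
  let q : Z ⟶ Spec (CommRingCat.of k) := J.subschemeι ≫ (Y ↘ Spec (CommRingCat.of k))
  letI : Z.Over (Spec (CommRingCat.of k)) := ⟨q⟩
  letI := GeomField.globalAlgebra k Z
  haveI : IsFinite q := hfin
  haveI : Module.Finite k Γ(Z, ⊤) :=
    RingHom.Finite.comp (IsFinite.finite_app (f := q) ⊤ (isAffineOpen_top _))
      (RingHom.Finite.of_surjective _ (ConcreteCategory.bijective_of_isIso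
        (Scheme.ΓSpecIso (CommRingCat.of k)).inv).2)
  have h0 : Module.finrank k Γ(Z, ⊤) = 0 := by exact_mod_cast hd.symm
  haveI := Module.finrank_zero_iff.1 h0
  haveI : IsEmpty Z := ⟨fun z => one_ne_zero (α := Z.presheaf.stalk z) (by
    rw [← map_one (Z.presheaf.germ ⊤ z trivial).hom, Subsingleton.elim (1 : Γ(Z, ⊤)) 0, map_zero])⟩
  rw [eq_top_iff]
  intro y _
  by_contra hy
  rw [← DepthTwist.mem_support_zeroScheme_iff hL s] at hy
  have hy' : y ∈ (J.support : Set Y) := hy
  rw [← Scheme.IdealSheafData.range_subschemeι] at hy'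
  obtain ⟨z, -⟩ := hy'
  exact isEmptyElim (α := Z) z

end Groth.Agent.SemiTriv
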